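import Groth.Agent.Lib.FlatH4.SmoothFibres
import Groth.Agent.Lib.AbRigid.KernelPair
import Groth.Agent.Lib.GrpFin20.Basic
import Groth.Agent.Lib.FibDim14.BaseChange
import Mathlib.AlgebraicGeometry.Morphisms.FormallyUnramified
import Mathlib.CategoryTheory.Monoidal.Cartesian.Over

/-!
# Unramified and quasi-finite homomorphisms: fibres, kernel, unit section
-/

universe u

open CategoryTheory Limits MonoidalCategory CartesianMonoidalCategory AlgebraicGeometry
open scoped MonObj GrpObj

set_option linter.style.haveILetI false
set_option backward.isDefEq.respectTransparency false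

namespace Groth.Agent.GrpUnr20

/-- A morphism locally of finite type with unramified fibres is unramified. -/
theorem formallyUnramified_of_fibres {X Y : Scheme.{u}} (f : X ⟶ Y) [LocallyOfFiniteType f]
    (H : ∀ (K : Type u) [Field K] (a : Spec (CommRingCat.of K) ⟶ Y), FormallyUnramified (pullback.fst a f)) :
    FormallyUnramified f := by
  rw [HasRingHomProperty.iff_appLE (P := @FormallyUnramified)]
  rintro ⟨U, hU⟩ ⟨V, hV⟩ e
  have hft := f.finiteType_appLE hU hV e
  algebraize [(f.appLE U V e).hom]
  rw [← RingHom.algebraMap_toAlgebra (f.appLE U V e).hom, RingHom.formallyUnramified_algebraMap]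
  refine FlatH4.formallyUnramified_of_fibres fun p _ => ?_
  have h := FlatH4.pullback_residueField_of_forall (P := @FormallyUnramified) f (fun e _ => inferInstance)
    H hU hV e p
  rw [HasRingHomProperty.Spec_iff (P := @FormallyUnramified), CommRingCat.hom_ofHom,
    RingHom.formallyUnramified_algebraMap] at h
  exact h

/-- A section of an unramified morphism locally of finite type is an open immersion. -/
theorem isOpenImmersion_section {X Y : Scheme.{u}} (f : X ⟶ Y) (s : Y ⟶ X) (hs : s ≫ f = 𝟙 Y)
    [LocallyOfFiniteType f] [FormallyUnramified f] : IsOpenImmersion s := by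
  haveI : Etale (s ≫ f) := by rw [hs]; infer_instance
  haveI : Etale s := Etale.of_comp s f
  haveI : IsSplitMono s := ⟨⟨⟨f, hs⟩⟩⟩
  exact IsOpenImmersion.of_flat_of_mono s

variable {S : Scheme.{u}}

/-- The diagonal of a group is a base change of the unit section. -/
theorem isPullback_diagonal (G : Over S) [GrpObj G] :
    IsPullback (pullback.diagonal G.hom) (toUnit G).left (fst G G * (snd G G)⁻¹).left η[G].left := by
  have h : IsPullback (lift (𝟙 G) (𝟙 G)) (toUnit G) (fst G G * (snd G G)⁻¹) η[G] := by
    refine IsPullback.of_isLimit' ⟨?_⟩ (PullbackCone.IsLimit.mk _ (fun c => c.fst ≫ fst G G)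
      (fun c => ?_) (fun c => toUnit_unique _ _) (fun c m h1 _ => ?_))
    · rw [MonObj.comp_mul, GrpObj.comp_inv, lift_fst, lift_snd, mul_inv_cancel, Hom.one_def]
    · have hc := c.condition
      rw [MonObj.comp_mul, GrpObj.comp_inv, Subsingleton.elim c.snd (toUnit c.pt), ← Hom.one_def,
        mul_inv_eq_one] at hc
      apply CartesianMonoidalCategory.hom_ext
      · rw [Category.assoc, lift_fst, Category.comp_id]
      · rw [Category.assoc, lift_snd, Category.comp_id, hc]
    · rw [← h1, Category.assoc, lift_fst, Category.comp_id]
  have e : (lift (𝟙 G) (𝟙 G)).left = pullback.diagonal G.hom := by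
    apply pullback.hom_ext
    · rw [pullback.diagonal_fst]
      show ((lift (𝟙 G) (𝟙 G)) ≫ fst G G).left = _
      rw [lift_fst]; rfl
    · rw [pullback.diagonal_snd]
      show ((lift (𝟙 G) (𝟙 G)) ≫ snd G G).left = _
      rw [lift_snd]; rfl
  rw [← e]
  exact h.map (Over.forget S)

/-- A group with open unit section is unramified. -/
theorem formallyUnramified_of_unit (G : Over S) [GrpObj G] [h : IsOpenImmersion η[G].left] :
    FormallyUnramified G.hom := by
  haveI : IsOpenImmersion (pullback.diagonal G.hom) :=
    MorphismProperty.of_isPullback (isPullback_diagonal G).flip h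
  infer_instance

/-- The unit section of an unramified group is open. -/
theorem isOpenImmersion_unit (G : Over S) [GrpObj G] [LocallyOfFiniteType G.hom] [FormallyUnramified G.hom] :
    IsOpenImmersion η[G].left :=
  isOpenImmersion_section G.hom η[G].left (Over.w η[G])

variable {G H : Over S} [GrpObj G] [GrpObj H] (u : G ⟶ H) [IsMonHom u]
  {K : Over S} (i : K ⟶ G) (hK : IsPullback i (toUnit K) u η[H])

include hK in
theorem kernel_hom {P : MorphismProperty Scheme.{u}} [P.IsStableUnderBaseChange] (h : P u.left) : P K.hom := by
  have e : K.hom = (toUnit K).left := (Over.w (toUnit K)).symm.trans (Category.comp_id _)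
  rw [e]
  exact MorphismProperty.of_isPullback (hK.map (Over.forget S)) h

include hK in
/-- A homomorphism with unramified kernel is unramified. -/
theorem formallyUnramified_of_kernel [LocallyOfFiniteType u.left] (h : FormallyUnramified K.hom) :
    FormallyUnramified u.left := by
  haveI : LocallyOfFiniteType K.hom := kernel_hom u i hK (P := @LocallyOfFiniteType) inferInstance
  have hp := (AbRigid.isPullback_kernelPair u i hK).map (Over.forget S)
  haveI hf : FormallyUnramified (fst G K).left := MorphismProperty.pullback_fst G.hom K.hom h
  haveI : LocallyOfFiniteType (fst G K).left := MorphismProperty.pullback_fst G.hom K.hom ‹_›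
  haveI : FormallyUnramified ((Over.forget S).map (fst G K)) := hf
  haveI : FormallyUnramified (pullback.fst u.left u.left) := by
    rw [show pullback.fst u.left u.left = hp.isoPullback.inv ≫ (Over.forget S).map (fst G K) from
      hp.isoPullback_inv_fst.symm]
    exact (MorphismProperty.cancel_left_of_respectsIso @FormallyUnramified _ _).2 hf
  haveI : IsOpenImmersion (pullback.diagonal u.left) :=
    isOpenImmersion_section (pullback.fst u.left u.left) (pullback.diagonal u.left) (pullback.diagonal_fst _)
  infer_instance

omit [GrpObj G] [GrpObj H] [IsMonHom u] in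
/-- Unramifiedness of a morphism over `S` is checked on the fibres over `S`. -/
theorem formallyUnramified_iff_fibres [LocallyOfFiniteType u.left] :
    FormallyUnramified u.left ↔ ∀ s : S, FormallyUnramified ((Over.pullback (S.fromSpecResidueField s)).map u).left := by
  refine ⟨fun h s => MorphismProperty.of_isPullback (GrpFin20.isPullback_map (S.fromSpecResidueField s) u) h,
    fun h => formallyUnramified_of_fibres u.left (FlatH4.pullback_field_of_fibres u.left H.hom fun s => ?_)⟩
  have sq := GrpFin20.isPullback_map (S.fromSpecResidueField s) u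
  show FormallyUnramified (pullback.snd u.left (pullback.fst H.hom (S.fromSpecResidueField s)))
  rw [← sq.isoPullback_inv_snd]
  exact (MorphismProperty.cancel_left_of_respectsIso @FormallyUnramified _ _).2 (h s)

/-- Local quasi-finiteness through the fibre dimension. -/
theorem locallyQuasiFinite_iff {X Y : Scheme.{u}} (f : X ⟶ Y) [LocallyOfFiniteType f] :
    LocallyQuasiFinite f ↔ ∀ x, FlatMor.fibreDimAt f x = 0 := by
  refine ⟨fun _ x => (FibDim14.fibreDimAt_eq_zero_iff f x).2 (f.quasiFiniteAt x), fun h => ?_⟩
  rw [locallyQuasiFinite_iff_isDiscrete_preimage_singleton]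
  intro y
  rw [isDiscrete_iff_discreteTopology, discreteTopology_iff_isOpen_singleton]
  rintro ⟨x, rfl⟩
  have h' := Scheme.Hom.quasiFiniteAt_iff_isOpen_singleton_asFiber.1 ((FibDim14.fibreDimAt_eq_zero_iff f x).1 (h x))
  rw [← (f.fiberHomeo (f x)).isOpen_image] at h'
  simp only [Set.image_singleton, Scheme.Hom.asFiber, Homeomorph.apply_symm_apply] at h'
  exact h'

omit [GrpObj G] [GrpObj H] [IsMonHom u] in
/-- Local quasi-finiteness of a morphism over `S` is checked on the fibres over `S`. -/
theorem locallyQuasiFinite_iff_fibres [LocallyOfFiniteType u.left] :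
    LocallyQuasiFinite u.left ↔ ∀ s : S, LocallyQuasiFinite ((Over.pullback (S.fromSpecResidueField s)).map u).left := by
  refine ⟨fun h s => MorphismProperty.of_isPullback (GrpFin20.isPullback_map (S.fromSpecResidueField s) u) h,
    fun h => (locallyQuasiFinite_iff u.left).2 fun x => ?_⟩
  let s := G.hom x
  have sq := GrpFin20.isPullback_map (S.fromSpecResidueField s) u
  obtain ⟨z, hz, -⟩ := Scheme.Pullback.exists_preimage_pullback (f := G.hom) (g := S.fromSpecResidueField s) x
    (IsLocalRing.closedPoint _) (Scheme.fromSpecResidueField_apply _ _).symm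
  haveI := h s
  haveI : LocallyOfFiniteType ((Over.pullback (S.fromSpecResidueField s)).map u).left :=
    MorphismProperty.of_isPullback sq ‹LocallyOfFiniteType u.left›
  have := FibDim14.fibreDimAt_baseChange sq z
  rw [(locallyQuasiFinite_iff _).1 (h s) z] at this
  rw [← hz]
  exact this.symm

include hK in
/-- A homomorphism with quasi-finite kernel is quasi-finite. -/
theorem locallyQuasiFinite_of_kernel [LocallyOfFiniteType u.left] (h : LocallyQuasiFinite K.hom) :
    LocallyQuasiFinite u.left := by
  haveI : LocallyOfFiniteType K.hom := kernel_hom u i hK (P := @LocallyOfFiniteType) inferInstance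
  haveI hf : LocallyQuasiFinite (fst G K).left := MorphismProperty.pullback_fst G.hom K.hom h
  haveI : LocallyOfFiniteType (fst G K).left := MorphismProperty.pullback_fst G.hom K.hom ‹_›
  rw [locallyQuasiFinite_iff]
  intro x
  have hp := (AbRigid.isPullback_kernelPair u i hK).map (Over.forget S)
  obtain ⟨w, -, hw⟩ := Scheme.exists_preimage_of_isPullback hp x x rfl
  haveI : LocallyOfFiniteType ((Over.forget S).map u) := ‹LocallyOfFiniteType u.left›
  haveI : LocallyOfFiniteType ((Over.forget S).map (fst G K)) := ‹LocallyOfFiniteType (fst G K).left›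
  have := FibDim14.fibreDimAt_baseChange hp.flip w
  have h0 : FlatMor.fibreDimAt ((Over.forget S).map (fst G K)) w = 0 := (locallyQuasiFinite_iff (fst G K).left).1 hf w
  rw [h0] at this
  rw [← hw]
  exact this.symm

end Groth.Agent.GrpUnr20
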